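import Cfsg.Agent.Lib.Fischer.C22.R0
import Cfsg.Agent.Lib.Fischer.C22.R1

set_option autoImplicit false
set_option maxRecDepth 100000

namespace Cfsg.Agent.Fi.C22

open Cfsg.Agent.PC

theorem rows : ∀ i < 3510, row i = 0 := by
  have h := zero_lt_zero row
  have h := zero_lt_add (a := nat_lit 0) (n := nat_lit 2000) (b := nat_lit 2000) h r0 rfl
  have h := zero_lt_add (a := nat_lit 2000) (n := nat_lit 1510) (b := nat_lit 3510) h r2000 rfl
  exact h
theorem auxs : ∀ i < 35732, aux i = 0 := by
  have h := zero_lt_zero aux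
  have h := zero_lt_add (a := nat_lit 0) (n := nat_lit 4000) (b := nat_lit 4000) h a0 rfl
  have h := zero_lt_add (a := nat_lit 4000) (n := nat_lit 4000) (b := nat_lit 8000) h a4000 rfl
  have h := zero_lt_add (a := nat_lit 8000) (n := nat_lit 4000) (b := nat_lit 12000) h a8000 rfl
  have h := zero_lt_add (a := nat_lit 12000) (n := nat_lit 4000) (b := nat_lit 16000) h a12000 rfl
  have h := zero_lt_add (a := nat_lit 16000) (n := nat_lit 4000) (b := nat_lit 20000) h a16000 rfl
  have h := zero_lt_add (a := nat_lit 20000) (n := nat_lit 4000) (b := nat_lit 24000) h a20000 rfl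
  have h := zero_lt_add (a := nat_lit 24000) (n := nat_lit 4000) (b := nat_lit 28000) h a24000 rfl
  have h := zero_lt_add (a := nat_lit 28000) (n := nat_lit 4000) (b := nat_lit 32000) h a28000 rfl
  have h := zero_lt_add (a := nat_lit 32000) (n := nat_lit 3732) (b := nat_lit 35732) h a32000 rfl
  exact h
theorem closes.{u} : ClosesT.{u} (fun j => j) rels 10 9 3510 T :=
  hc_closes (N1 := nat_lit 3509) rfl T_eq (by decide +kernel) rows auxs
theorem T_inv : ∀ c < 3510, ∀ j < 10, T j c < 3510 ∧ T j (T j c) = c :=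
  hc_inv (inv := fun j => j) (N1 := nat_lit 3509) rfl T_eq rows

end Cfsg.Agent.Fi.C22
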